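import Mathlib
import Groth.Prelude.Def_DRing3

set_option autoImplicit false
universe u
open CategoryTheory CategoryTheory.Limits CochainComplex CochainComplex.HomComplex

attribute [local instance] HasDerivedCategory.standard

namespace Helper5.LC

open DerivedCategory

variable {A : Type u} [CommRing A]

/-- `M` in degree zero -/
noncomputable abbrev S' (M : ModuleCat.{u} A) : CochainComplex (ModuleCat.{u} A) ℤ :=
  (CochainComplex.singleFunctor (ModuleCat.{u} A) 0).obj M

variable {M : ModuleCat.{u} A} {J : CochainComplex (ModuleCat.{u} A) ℤ} {q : ℤ}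

/-- the cocycle attached to a map `M ⟶ J^q` killed by the differential -/
noncomputable def cocyc (f : M ⟶ J.X q) (hf : f ≫ J.d q (q + 1) = 0) : Cocycle (S' M) J q :=
  Cocycle.mk (Cochain.fromSingleMk f (zero_add q)) (q + 1) rfl (by
    rw [Cochain.δ_fromSingleMk f (zero_add q) (q + 1) (q + 1) (zero_add _), hf,
      Cochain.fromSingleMk_zero])

lemma cocyc_coe (f : M ⟶ J.X q) (hf : f ≫ J.d q (q + 1) = 0) :
    (cocyc f hf : Cochain (S' M) J q) = Cochain.fromSingleMk f (zero_add q) := rfl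

variable (M J q) in
/-- from homotopy classes to morphisms in the derived category -/
noncomputable def QhHom :
    ((HomotopyCategory.quotient (ModuleCat.{u} A) (ComplexShape.up ℤ)).obj (S' M) ⟶
      (HomotopyCategory.quotient (ModuleCat.{u} A) (ComplexShape.up ℤ)).obj (J⟦q⟧)) →+
      (Q.obj (S' M) ⟶ (Q.obj J)⟦q⟧) :=
  (Preadditive.rightComp (Q.obj (S' M)) ((Q.commShiftIso q).hom.app J)).comp
    (Qh.mapAddHom (X := (HomotopyCategory.quotient (ModuleCat.{u} A) (ComplexShape.up ℤ)).obj (S' M))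
      (Y := (HomotopyCategory.quotient (ModuleCat.{u} A) (ComplexShape.up ℤ)).obj (J⟦q⟧)))

lemma QhHom_bijective [J.IsKInjective] : Function.Bijective (QhHom M J q) := by
  have h1 := CochainComplex.IsKInjective.Qh_map_bijective
    ((HomotopyCategory.quotient (ModuleCat.{u} A) (ComplexShape.up ℤ)).obj (S' M)) (J⟦q⟧)
  constructor
  · intro a b hab
    apply h1.1
    have hab' : Qh.map a ≫ (Q.commShiftIso q).hom.app J =
        Qh.map b ≫ (Q.commShiftIso q).hom.app J := hab
    exact (cancel_mono ((Q.commShiftIso q).hom.app J)).1 hab'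
  · intro α
    obtain ⟨β, hβ⟩ := h1.2 (α ≫ (Q.commShiftIso q).inv.app J)
    refine ⟨β, ?_⟩
    change Qh.map β ≫ (Q.commShiftIso q).hom.app J = α
    have h2 : (α ≫ (Q.commShiftIso q).inv.app J) ≫ (Q.commShiftIso q).hom.app J = α := by
      rw [Category.assoc, Iso.inv_hom_id_app]
      exact Category.comp_id α
    exact (congrArg (fun t => t ≫ (Q.commShiftIso q).hom.app J) hβ).trans h2

variable (M J q) in
/-- from cocycles to morphisms in the derived category -/
noncomputable def Θhom : Cocycle (S' M) J q →+ (Q.obj (S' M) ⟶ (Q.obj J)⟦q⟧) :=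
  (QhHom M J q).comp ((CohomologyClass.toHom (K := S' M) (L := J) (n := q)).comp
    (CohomologyClass.mkAddMonoidHom (K := S' M) (L := J) (n := q)))

lemma Θhom_surjective [J.IsKInjective] : Function.Surjective (Θhom M J q) := by
  intro α
  obtain ⟨β, rfl⟩ := (QhHom_bijective (M := M) (J := J) (q := q)).2 α
  obtain ⟨x, rfl⟩ := (CohomologyClass.toHom_bijective (S' M) J q).2 β
  obtain ⟨x, rfl⟩ := CohomologyClass.mk_surjective x
  exact ⟨x, rfl⟩

lemma Θhom_eq_zero_iff [J.IsKInjective] (x : Cocycle (S' M) J q) :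
    Θhom M J q x = 0 ↔ x ∈ coboundaries (S' M) J q := by
  rw [← CohomologyClass.toHom_mk_eq_zero_iff]
  constructor
  · intro h
    apply (QhHom_bijective (M := M) (J := J) (q := q)).1
    rw [map_zero]
    exact h
  · intro h
    change QhHom M J q (CohomologyClass.toHom (CohomologyClass.mk x)) = 0
    rw [h, map_zero]

/-- the morphism in the derived category attached to a map `M ⟶ J^q` killed by the
differential -/
noncomputable def Θ (f : M ⟶ J.X q) (hf : f ≫ J.d q (q + 1) = 0) :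
    Q.obj (S' M) ⟶ (Q.obj J)⟦q⟧ :=
  Θhom M J q (cocyc f hf)

lemma Θ_add (f g : M ⟶ J.X q) (hf : f ≫ J.d q (q + 1) = 0) (hg : g ≫ J.d q (q + 1) = 0) :
    Θ (f + g) (by rw [Preadditive.add_comp, hf, hg, add_zero]) = Θ f hf + Θ g hg := by
  have h : cocyc (f + g) (by rw [Preadditive.add_comp, hf, hg, add_zero]) =
      cocyc f hf + cocyc g hg := by
    ext1
    simp [cocyc_coe]
  rw [Θ, Θ, Θ, h, map_add]

lemma Θ_surjective [J.IsKInjective] (α : Q.obj (S' M) ⟶ (Q.obj J)⟦q⟧) :
    ∃ (f : M ⟶ J.X q) (hf : f ≫ J.d q (q + 1) = 0), Θ f hf = α := by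
  obtain ⟨x, rfl⟩ := Θhom_surjective (M := M) (J := J) (q := q) α
  obtain ⟨f, hf⟩ := Cochain.fromSingleMk_surjective (x : Cochain (S' M) J q) q (zero_add q)
  have hf0 : f ≫ J.d q (q + 1) = 0 := by
    have h1 := Cocycle.δ_eq_zero x (q + 1)
    rw [← hf, Cochain.δ_fromSingleMk f (zero_add q) (q + 1) (q + 1) (zero_add _)] at h1
    have h2 := congrArg (Cochain.fromSingleEquiv (zero_add (q + 1))) h1
    rw [Cochain.fromSingleEquiv_fromSingleMk, map_zero] at h2
    exact h2
  refine ⟨f, hf0, ?_⟩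
  have hx : cocyc f hf0 = x := by
    ext1
    exact hf
  rw [Θ, hx]

lemma Θ_eq_zero_iff [J.IsKInjective] (f : M ⟶ J.X q) (hf : f ≫ J.d q (q + 1) = 0)
    (p : ℤ) (hp : p + 1 = q) :
    Θ f hf = 0 ↔ ∃ g : M ⟶ J.X p, g ≫ J.d p q = f := by
  rw [Θ, Θhom_eq_zero_iff, mem_coboundaries_iff _ p hp]
  constructor
  · rintro ⟨β, hβ⟩
    obtain ⟨g, rfl⟩ := Cochain.fromSingleMk_surjective β p (zero_add p)
    refine ⟨g, ?_⟩
    rw [Cochain.δ_fromSingleMk g (zero_add p) q q (zero_add q), cocyc_coe] at hβ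
    have := congrArg (Cochain.fromSingleEquiv (zero_add q)) hβ
    rw [Cochain.fromSingleEquiv_fromSingleMk, Cochain.fromSingleEquiv_fromSingleMk] at this
    exact this
  · rintro ⟨g, rfl⟩
    refine ⟨Cochain.fromSingleMk g (zero_add p), ?_⟩
    rw [Cochain.δ_fromSingleMk g (zero_add p) q q (zero_add q), cocyc_coe]


lemma Θhom_precomp {M' : ModuleCat.{u} A} (z : Cocycle (S' M) J q) (g : S' M' ⟶ S' M) :
    Θhom M' J q (z.precomp g) = Q.map g ≫ Θhom M J q z := by
  change Qh.map (CohomologyClass.toHom (CohomologyClass.mk (z.precomp g))) ≫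
      (Q.commShiftIso q).hom.app J =
    Q.map g ≫ Qh.map (CohomologyClass.toHom (CohomologyClass.mk z)) ≫
      (Q.commShiftIso q).hom.app J
  rw [CohomologyClass.toHom_mk, CohomologyClass.toHom_mk, Cocycle.equivHomShift_symm_precomp,
    Functor.map_comp, Functor.map_comp, Category.assoc]
  rfl

lemma Θ_precomp {M' : ModuleCat.{u} A} (u : M' ⟶ M) (f : M ⟶ J.X q)
    (hf : f ≫ J.d q (q + 1) = 0) :
    Θ (u ≫ f) (by rw [Category.assoc, hf, comp_zero]) =
      Q.map ((CochainComplex.singleFunctor (ModuleCat.{u} A) 0).map u) ≫ Θ f hf := by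
  have h : cocyc (u ≫ f) (by rw [Category.assoc, hf, comp_zero]) =
      (cocyc f hf).precomp ((CochainComplex.singleFunctor (ModuleCat.{u} A) 0).map u) := by
    ext1
    rw [cocyc_coe, Cochain.fromSingleMk_precomp]
    rfl
  rw [Θ, Θ, h, Θhom_precomp]

lemma Θ_congr {f f' : M ⟶ J.X q} (h : f = f') (hf : f ≫ J.d q (q + 1) = 0)
    (hf' : f' ≫ J.d q (q + 1) = 0) : Θ f hf = Θ f' hf' := by
  subst h
  rfl

lemma Θ_smul (a : A) (f : M ⟶ J.X q) (hf : f ≫ J.d q (q + 1) = 0) :
    Θ (a • f) (by rw [Linear.smul_comp, hf, smul_zero]) = a • Θ f hf := by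
  have h1 : a • f = (a • 𝟙 M) ≫ f := by rw [Linear.smul_comp, Category.id_comp]
  have h2 := Θ_precomp (a • 𝟙 M) f hf
  have h3 : Q.map ((CochainComplex.singleFunctor (ModuleCat.{u} A) 0).map (a • 𝟙 M)) =
      a • 𝟙 (Q.obj (S' M)) := by
    rw [Functor.map_smul, Functor.map_smul, CategoryTheory.Functor.map_id,
      CategoryTheory.Functor.map_id]
  have h4 : (a • 𝟙 (Q.obj (S' M))) ≫ Θ f hf = a • Θ f hf := by
    rw [Linear.smul_comp, Category.id_comp]
  refine (Θ_congr h1 _ _).trans (h2.trans ?_)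
  rw [h3]
  exact h4

end Helper5.LC
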