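import Mathlib
import Groth.Prelude.Def_DRing3
import Groth.Prelude.Def_DualLC
import Groth.Agent.Lib.Helper5.LC.HomSingle
import Groth.Agent.Lib.Helper5.RGam.Gamma
import Groth.Agent.Lib.Helper5.DComp.Iter
import Groth.Agent.Lib.Helper5.KInj.Derived

/-!
# `H^q(RΓ_I K)` as the colimit of `Hom(A/I^n, K[q])`
-/

set_option autoImplicit false
universe u
open CategoryTheory CategoryTheory.Limits Opposite

attribute [local instance] HasDerivedCategory.standard

namespace Helper5.LC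

open DerivedCategory Helper5.RGam

variable {A : Type u} [CommRing A] (I : Ideal A)

section fz

variable {M N : ModuleCat.{u} A}

/-- the map `A/I^n → M`, `1 ↦ z` -/
noncomputable def fz (n : ℕ) (z : M) (hz : ∀ a ∈ I ^ n, a • z = 0) :
    ModuleCat.of A (A ⧸ I ^ n) ⟶ M :=
  ModuleCat.ofHom (Submodule.liftQ (I ^ n) (LinearMap.toSpanSingleton A M z) (fun a ha => by
    rw [LinearMap.mem_ker, LinearMap.toSpanSingleton_apply]
    exact hz a ha))

lemma fz_mk (n : ℕ) (z : M) (hz : ∀ a ∈ I ^ n, a • z = 0) (a : A) :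
    (fz I n z hz).hom (Submodule.Quotient.mk a) = a • z := rfl

lemma fz_ext {n : ℕ} {f g : ModuleCat.of A (A ⧸ I ^ n) ⟶ M}
    (h : ∀ a : A, f.hom (Submodule.Quotient.mk a) = g.hom (Submodule.Quotient.mk a)) : f = g := by
  apply ModuleCat.hom_ext
  apply LinearMap.ext
  intro x
  obtain ⟨a, rfl⟩ := Submodule.Quotient.mk_surjective _ x
  exact h a

lemma fz_add (n : ℕ) (z z' : M) (hz : ∀ a ∈ I ^ n, a • z = 0) (hz' : ∀ a ∈ I ^ n, a • z' = 0) :
    fz I n (z + z') (fun a ha => by rw [smul_add, hz a ha, hz' a ha, add_zero]) =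
      fz I n z hz + fz I n z' hz' := by
  apply fz_ext
  intro a
  exact smul_add a z z'

lemma fz_smul (n : ℕ) (c : A) (z : M) (hz : ∀ a ∈ I ^ n, a • z = 0) :
    fz I n (c • z) (fun a ha => by rw [smul_comm, hz a ha, smul_zero]) = c • fz I n z hz := by
  apply fz_ext
  intro a
  exact smul_comm a c z

lemma fz_comp (n : ℕ) (z : M) (hz : ∀ a ∈ I ^ n, a • z = 0) (g : M ⟶ N) :
    fz I n z hz ≫ g = fz I n (g.hom z) (fun a ha => by rw [← map_smul, hz a ha, map_zero]) := by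
  apply fz_ext
  intro a
  exact map_smul g.hom a z

lemma eq_fz (n : ℕ) (g : ModuleCat.of A (A ⧸ I ^ n) ⟶ M) :
    ∃ hz : ∀ a ∈ I ^ n, a • g.hom (Submodule.Quotient.mk 1) = 0,
      g = fz I n (g.hom (Submodule.Quotient.mk 1)) hz := by
  have hz : ∀ a ∈ I ^ n, a • g.hom (Submodule.Quotient.mk (1 : A)) = 0 := by
    intro a ha
    rw [← map_smul, ← Submodule.Quotient.mk_smul, smul_eq_mul, mul_one,
      (Submodule.Quotient.mk_eq_zero (I ^ n)).2 ha, map_zero]
  refine ⟨hz, ?_⟩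
  apply fz_ext
  intro a
  change _ = a • g.hom (Submodule.Quotient.mk 1)
  rw [← map_smul, ← Submodule.Quotient.mk_smul, smul_eq_mul, mul_one]

/-- the transition map `A/I^k → A/I^n` for `n ≤ k` -/
noncomputable abbrev tr {n k : ℕ} (h : n ≤ k) :
    ModuleCat.of A (A ⧸ I ^ k) ⟶ ModuleCat.of A (A ⧸ I ^ n) :=
  (localCohomology.ringModIdeals (localCohomology.idealPowersDiagram I)).map (homOfLE h).op

lemma tr_fz {n k : ℕ} (h : n ≤ k) (z : M) (hz : ∀ a ∈ I ^ n, a • z = 0) :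
    tr I h ≫ fz I n z hz = fz I k z (fun a ha => hz a (Ideal.pow_le_pow_right h ha)) := by
  apply fz_ext
  intro a
  rfl

end fz

variable (J : CochainComplex (ModuleCat.{u} A) ℤ) (q : ℤ)

/-- cycles of degree `q` killed by `I^n` -/
def Zn (n : ℕ) : Submodule A (J.X q) where
  carrier := {z | (J.d q (q + 1)).hom z = 0 ∧ ∀ a ∈ I ^ n, a • z = 0}
  zero_mem' := ⟨map_zero _, fun a _ => smul_zero a⟩
  add_mem' := by
    rintro z z' ⟨h1, h2⟩ ⟨h1', h2'⟩
    exact ⟨by rw [map_add, h1, h1', add_zero],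
      fun a ha => by rw [smul_add, h2 a ha, h2' a ha, add_zero]⟩
  smul_mem' := by
    rintro c z ⟨h1, h2⟩
    exact ⟨by rw [map_smul, h1, smul_zero], fun a ha => by rw [smul_comm, h2 a ha, smul_zero]⟩

lemma fz_d (n : ℕ) (z : Zn I J q n) : fz I n z.1 z.2.2 ≫ J.d q (q + 1) = 0 := by
  apply fz_ext
  intro a
  change (J.d q (q + 1)).hom (a • z.1) = 0
  rw [map_smul, z.2.1, smul_zero]

/-- the map from cycles killed by `I^n` to `Hom_{D(A)}(A/I^n, J[q])` -/
noncomputable def θ (n : ℕ) :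
    Zn I J q n →ₗ[A] (Q.obj (S' (ModuleCat.of A (A ⧸ I ^ n))) ⟶ (Q.obj J)⟦q⟧) where
  toFun z := Θ (fz I n z.1 z.2.2) (fz_d I J q n z)
  map_add' z z' := (Θ_congr (fz_add I n z.1 z'.1 z.2.2 z'.2.2) _
    (by rw [Preadditive.add_comp, fz_d I J q n z, fz_d I J q n z', add_zero])).trans
      (Θ_add _ _ _ _)
  map_smul' c z := (Θ_congr (fz_smul I n c z.1 z.2.2) _
    (by rw [Linear.smul_comp, fz_d I J q n z, smul_zero])).trans (Θ_smul _ _ _)

lemma θ_apply (n : ℕ) (z : Zn I J q n) :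
    θ I J q n z = Θ (fz I n z.1 z.2.2) (fz_d I J q n z) := rfl

variable [J.IsKInjective]

lemma θ_surjective (n : ℕ) : Function.Surjective (θ I J q n) := by
  intro α
  obtain ⟨f, hf, rfl⟩ := Θ_surjective α
  obtain ⟨hz, hfz⟩ := eq_fz I n f
  have hd : (J.d q (q + 1)).hom (f.hom (Submodule.Quotient.mk 1)) = 0 := by
    have := congrArg (fun t => t.hom (Submodule.Quotient.mk (1 : A))) hf
    exact this
  refine ⟨⟨f.hom (Submodule.Quotient.mk 1), hd, hz⟩, ?_⟩
  rw [θ_apply]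
  exact Θ_congr hfz.symm _ _

lemma θ_eq_zero_iff (n : ℕ) (z : Zn I J q n) (p : ℤ) (hp : p + 1 = q) :
    θ I J q n z = 0 ↔ ∃ w : J.X p, (∀ a ∈ I ^ n, a • w = 0) ∧ (J.d p q).hom w = z.1 := by
  rw [θ_apply, Θ_eq_zero_iff _ _ p hp]
  constructor
  · rintro ⟨g, hg⟩
    obtain ⟨hw, -⟩ := eq_fz I n g
    refine ⟨g.hom (Submodule.Quotient.mk 1), hw, ?_⟩
    have := congrArg (fun t => t.hom (Submodule.Quotient.mk (1 : A))) hg
    refine this.trans ?_
    change (1 : A) • z.1 = z.1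
    exact one_smul _ _
  · rintro ⟨w, hw, hwz⟩
    refine ⟨fz I n w hw, ?_⟩
    rw [fz_comp]
    apply fz_ext
    intro a
    change a • (J.d p q).hom w = a • z.1
    rw [hwz]

/-- inclusion `Z_n ⊆ Z_k` for `n ≤ k` -/
def inclZ {n k : ℕ} (h : n ≤ k) (z : Zn I J q n) : Zn I J q k :=
  ⟨z.1, z.2.1, fun a ha => z.2.2 a (Ideal.pow_le_pow_right h ha)⟩

omit [J.IsKInjective] in
lemma θ_trans {n k : ℕ} (h : n ≤ k) (z : Zn I J q n) :
    Q.map ((CochainComplex.singleFunctor (ModuleCat.{u} A) 0).map (tr I h)) ≫ θ I J q n z =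
      θ I J q k (inclZ I J q h z) := by
  rw [θ_apply, θ_apply, ← Θ_precomp]
  exact Θ_congr (tr_fz I h z.1 z.2.2) _ _

variable (p : ℤ)

/-- the short complex computing `H^q(Γ_I J)` -/
noncomputable abbrev Sc : ShortComplex (ModuleCat.{u} A) := (gammaCx I J).sc' p q (q + 1)

/-- the concrete model of `H^q(Γ_I J)` -/
abbrev Hq : Type u :=
  LinearMap.ker (Sc I J q p).g.hom ⧸ LinearMap.range (Sc I J q p).moduleCatToCycles

omit [J.IsKInjective] in
lemma mem_ker_g (x : J.X q) (hx : x ∈ DRing.torsionSub I (J.X q))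
    (hd : (J.d q (q + 1)).hom x = 0) :
    (⟨x, hx⟩ : DRing.torsionSub I (J.X q)) ∈ LinearMap.ker (Sc I J q p).g.hom := by
  change (Sc I J q p).g.hom ⟨x, hx⟩ = 0
  exact Subtype.ext hd

/-- the class of a cycle killed by `I^n` -/
noncomputable def κ (n : ℕ) : Zn I J q n →ₗ[A] Hq I J q p where
  toFun z := Submodule.Quotient.mk ⟨⟨z.1, n, z.2.2⟩, mem_ker_g I J q p z.1 ⟨n, z.2.2⟩ z.2.1⟩
  map_add' z z' := rfl
  map_smul' c z := rfl

omit [J.IsKInjective] in
lemma κ_eq_zero_iff (n : ℕ) (z : Zn I J q n) :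
    κ I J q p n z = 0 ↔
      ∃ w : J.X p, w ∈ DRing.torsionSub I (J.X p) ∧ (J.d p q).hom w = z.1 := by
  change Submodule.Quotient.mk _ = 0 ↔ _
  rw [Submodule.Quotient.mk_eq_zero, LinearMap.mem_range]
  constructor
  · rintro ⟨w, hw⟩
    exact ⟨w.1, w.2, congrArg (fun t => t.1.1) hw⟩
  · rintro ⟨w, hw, h⟩
    exact ⟨⟨w, hw⟩, Subtype.ext (Subtype.ext h)⟩

omit [J.IsKInjective] in
lemma κ_inclZ {n k : ℕ} (h : n ≤ k) (z : Zn I J q n) :
    κ I J q p k (inclZ I J q h z) = κ I J q p n z := rfl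

variable (hp : p + 1 = q)

include hp in
lemma ker_θ_le (n : ℕ) : LinearMap.ker (θ I J q n) ≤ LinearMap.ker (κ I J q p n) := by
  intro z hz
  rw [LinearMap.mem_ker] at hz ⊢
  rw [κ_eq_zero_iff]
  obtain ⟨w, hw, hwz⟩ := (θ_eq_zero_iff I J q n z p hp).1 hz
  exact ⟨w, ⟨n, hw⟩, hwz⟩

/-- the leg `Hom(A/I^n, J[q]) → H^q(Γ_I J)` -/
noncomputable def cn (n : ℕ) :
    (Q.obj (S' (ModuleCat.of A (A ⧸ I ^ n))) ⟶ (Q.obj J)⟦q⟧) →ₗ[A] Hq I J q p :=
  (Submodule.liftQ (LinearMap.ker (θ I J q n)) (κ I J q p n) (ker_θ_le I J q p hp n)) ∘ₗ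
    ((θ I J q n).quotKerEquivOfSurjective (θ_surjective I J q n)).symm.toLinearMap

lemma cn_θ (n : ℕ) (z : Zn I J q n) : cn I J q p hp n (θ I J q n z) = κ I J q p n z := by
  have h : ((θ I J q n).quotKerEquivOfSurjective (θ_surjective I J q n)).symm (θ I J q n z) =
      Submodule.Quotient.mk z := by
    rw [LinearEquiv.symm_apply_eq]
    rfl
  change Submodule.liftQ (LinearMap.ker (θ I J q n)) (κ I J q p n) (ker_θ_le I J q p hp n)
    (((θ I J q n).quotKerEquivOfSurjective (θ_surjective I J q n)).symm (θ I J q n z)) = _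
  rw [h]
  rfl

section Colim

/-- the diagram defining `HDI` -/
noncomputable abbrev Gd (K : Dual.D A) (q : ℤ) : ℕᵒᵖᵒᵖ ⥤ ModuleCat.{u + 1} A :=
  (localCohomology.ringModIdeals (localCohomology.idealPowersDiagram I) ⋙
      DerivedCategory.singleFunctor (ModuleCat.{u} A) 0).op ⋙
    (linearYoneda A (Dual.D A)).obj (K⟦q⟧)

omit [J.IsKInjective] in
lemma Gd_map_apply {n k : ℕ} (h : n ≤ k)
    (α : Q.obj (S' (ModuleCat.of A (A ⧸ I ^ n))) ⟶ (Q.obj J)⟦q⟧) :
    ((Gd I (Q.obj J) q).map ((homOfLE h).op.op : op (op n) ⟶ op (op k))).hom α =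
      Q.map ((CochainComplex.singleFunctor (ModuleCat.{u} A) 0).map (tr I h)) ≫ α := rfl

noncomputable instance inst1 : PreservesColimitsOfShape ℕᵒᵖᵒᵖ (forget AddCommGrpCat.{u + 1}) :=
  haveI := preservesSmallestFilteredColimits_of_preservesFilteredColimits
    (forget AddCommGrpCat.{u + 1})
  PreservesFilteredColimitsOfSize.preserves_filtered_colimits _

noncomputable instance inst2 :
    PreservesColimitsOfShape ℕᵒᵖᵒᵖ (forget (ModuleCat.{u + 1} A)) := by
  have h : forget₂ (ModuleCat.{u + 1} A) AddCommGrpCat.{u + 1} ⋙ forget AddCommGrpCat.{u + 1} =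
      forget (ModuleCat.{u + 1} A) := HasForget₂.forget_comp
  rw [← h]
  infer_instance

/-- `E ≃ ULift E` -/
noncomputable def upE (A : Type u) [CommRing A] (E : Type u) [AddCommGroup E] [Module A E] :
    E ≃ₗ[A] ULift.{u + 1} E := ULift.moduleEquiv.symm

/-- the cocone with point `H^q(Γ_I J)` -/
noncomputable def coconeH : Cocone (Gd I (Q.obj J) q) where
  pt := ModuleCat.of A (ULift.{u + 1} (Hq I J q p))
  ι :=
    { app := fun j => ModuleCat.ofHom
        ((upE A (Hq I J q p)).toLinearMap ∘ₗ cn I J q p hp j.unop.unop)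
      naturality := by
        intro X Y g
        obtain ⟨⟨n⟩⟩ := X
        obtain ⟨⟨k⟩⟩ := Y
        have h : n ≤ k := leOfHom g.unop.unop
        have hg : g = (homOfLE h).op.op := Subsingleton.elim _ _
        subst hg
        apply ModuleCat.hom_ext
        apply LinearMap.ext
        intro α
        obtain ⟨z, rfl⟩ := θ_surjective I J q n α
        change upE A (Hq I J q p) (cn I J q p hp k
          (Q.map ((CochainComplex.singleFunctor (ModuleCat.{u} A) 0).map (tr I h)) ≫ θ I J q n z)) =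
          upE A (Hq I J q p) (cn I J q p hp n (θ I J q n z))
        rw [θ_trans, cn_θ, cn_θ, κ_inclZ] }

/-- the comparison map -/
noncomputable def Phi : Dual2.HDI A I (Q.obj J) q →ₗ[A] ULift.{u + 1} (Hq I J q p) :=
  (colimit.desc (Gd I (Q.obj J) q) (coconeH I J q p hp)).hom

lemma Phi_ι (n : ℕ) (z : Zn I J q n) :
    Phi I J q p hp ((colimit.ι (Gd I (Q.obj J) q) (op (op n))).hom (θ I J q n z)) =
      upE A (Hq I J q p) (κ I J q p n z) := by
  have h := colimit.ι_desc (coconeH I J q p hp) (op (op n))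
  have h' := congrArg (fun α => α.hom (θ I J q n z)) h
  refine h'.trans ?_
  change upE A (Hq I J q p) (cn I J q p hp n (θ I J q n z)) = _
  rw [cn_θ]

theorem Phi_bijective : Function.Bijective (Phi I J q p hp) := by
  constructor
  · rw [injective_iff_map_eq_zero]
    intro x hx
    obtain ⟨j, y, rfl⟩ := Concrete.colimit_exists_rep (Gd I (Q.obj J) q) x
    obtain ⟨⟨n⟩⟩ := j
    obtain ⟨z, rfl⟩ := θ_surjective I J q n y
    have h1 := Phi_ι I J q p hp n z
    have h2 : upE A (Hq I J q p) (κ I J q p n z) = (0 : ULift.{u + 1} (Hq I J q p)) :=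
      h1.symm.trans hx
    have h3 : κ I J q p n z = 0 := by
      have := congrArg (upE A (Hq I J q p)).symm h2
      rwa [LinearEquiv.symm_apply_apply, map_zero] at this
    obtain ⟨w, ⟨m, hw⟩, hwz⟩ := (κ_eq_zero_iff I J q p n z).1 h3
    have hnk : n ≤ max n m := le_max_left _ _
    have h4 : θ I J q (max n m) (inclZ I J q hnk z) = 0 := by
      rw [θ_eq_zero_iff I J q _ _ p hp]
      exact ⟨w, fun a ha => hw a (Ideal.pow_le_pow_right (le_max_right _ _) ha), hwz⟩
    have h5 := congrArg (fun t => t.hom (θ I J q n z))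
      (colimit.w (Gd I (Q.obj J) q) ((homOfLE hnk).op.op : op (op n) ⟶ op (op (max n m))))
    refine h5.symm.trans ?_
    change (colimit.ι (Gd I (Q.obj J) q) (op (op (max n m)))).hom
      (((Gd I (Q.obj J) q).map ((homOfLE hnk).op.op : op (op n) ⟶ op (op (max n m)))).hom
        (θ I J q n z)) = 0
    rw [Gd_map_apply, θ_trans, h4]
    exact map_zero (colimit.ι (Gd I (Q.obj J) q) (op (op (max n m)))).hom
  · intro e
    obtain ⟨x, rfl⟩ := (upE A (Hq I J q p)).surjective e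
    obtain ⟨⟨⟨z, n, hz⟩, hzk⟩, rfl⟩ := Submodule.Quotient.mk_surjective _ x
    have hd : (J.d q (q + 1)).hom z = 0 := by
      have := (LinearMap.mem_ker).1 hzk
      exact congrArg Subtype.val this
    refine ⟨(colimit.ι (Gd I (Q.obj J) q) (op (op n))).hom (θ I J q n ⟨z, hd, hz⟩), ?_⟩
    rw [Phi_ι]
    rfl

end Colim

section Main

variable [DRing.HasRgammaI I]

theorem main_kinj : Nonempty (Dual.HD A ((DRing.RgammaI I).obj (Q.obj J)) q ≃ₗ[A]
    Dual2.HDI A I (Q.obj J) q) := by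
  have hp : (q - 1) + 1 = q := by omega
  have hprev : (ComplexShape.up ℤ).prev q = q - 1 := by simp
  have hnext : (ComplexShape.up ℤ).next q = q + 1 := by simp
  let e1 : Dual.HD A ((DRing.RgammaI I).obj (Q.obj J)) q ≃ₗ[A]
      Dual.HD A (Q.obj (gammaCx I J)) q :=
    ((DerivedCategory.homologyFunctor (ModuleCat.{u} A) q).mapIso (rgammaIso I J)).toLinearEquiv
  let e2 := Helper5.DComp.HDQEquiv (gammaCx I J) q
  let e3 : (gammaCx I J).homology q ≃ₗ[A] Hq I J q (q - 1) :=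
    ((gammaCx I J).homologyIsoSc' (q - 1) q (q + 1) hprev hnext ≪≫
      (Sc I J q (q - 1)).moduleCatHomologyIso).toLinearEquiv
  let e5 := LinearEquiv.ofBijective (Phi I J q (q - 1) hp) (Phi_bijective I J q (q - 1) hp)
  exact ⟨e1.trans (e2.trans (e3.trans ((upE A (Hq I J q (q - 1))).trans e5.symm)))⟩

omit [J.IsKInjective] in
theorem main (K : Dual.D A) : Nonempty (Dual.HD A ((DRing.RgammaI I).obj K) q ≃ₗ[A]
    Dual2.HDI A I K q) := by
  obtain ⟨J, f, hJ, hf⟩ := Helper5.RGam.hasKInjRes_moduleCat (A := A) (Q.objPreimage K)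
  haveI := hJ
  haveI : IsIso (Q.map f) := (DerivedCategory.isIso_Q_map_iff_quasiIso (φ := f)).2 hf
  let e : K ≅ Q.obj J := (Q.objObjPreimageIso K).symm ≪≫ asIso (Q.map f)
  obtain ⟨E⟩ := main_kinj I J q
  let a : Dual.HD A ((DRing.RgammaI I).obj K) q ≃ₗ[A]
      Dual.HD A ((DRing.RgammaI I).obj (Q.obj J)) q :=
    ((DRing.RgammaI I ⋙ DerivedCategory.homologyFunctor (ModuleCat.{u} A) q).mapIso
      e).toLinearEquiv
  let b : Dual2.HDI A I K q ≅ Dual2.HDI A I (Q.obj J) q :=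
    HasColimit.isoOfNatIso (Functor.isoWhiskerLeft _
      ((linearYoneda A (Dual.D A)).mapIso ((shiftFunctor (Dual.D A) q).mapIso e)))
  exact ⟨a.trans (E.trans b.toLinearEquiv.symm)⟩

end Main

end Helper5.LC
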